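import Mathlib

/-!
# Piece (AR1) of #6956 (helper60, for helper16 / helper77: Brauer 1943): pure arithmetic
-/

set_option autoImplicit false

namespace Cfsg.Agent.Helper60.B43

theorem ar_pos (p e n u h : ℕ) (hp : 2 ≤ p) (he1 : 1 ≤ e) (hed : e ∣ p - 1) (hu : 1 ≤ u)
    (hprod : (1 + u * p) * (e + h * p) = (1 + n * p) * e) (hn : 2 * n ≤ p + 1) :
    h = 0 ∧ u = n := by
  have hp0 : 0 < p := by omega
  -- the key equation
  have hkey : h + u * e + u * h * p = n * e := by
    have e1 : (1 + u * p) * (e + h * p) = e + p * (h + u * e + u * h * p) := by ring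
    have e2 : (1 + n * p) * e = e + p * (n * e) := by ring
    rw [e1, e2] at hprod
    exact Nat.eq_of_mul_eq_mul_left hp0 (Nat.add_left_cancel hprod)
  rcases Nat.eq_zero_or_pos h with h0 | hpos
  · refine ⟨h0, ?_⟩
    rw [h0] at hkey
    simp only [zero_add, mul_zero, zero_mul, add_zero] at hkey
    exact Nat.eq_of_mul_eq_mul_right he1 hkey
  · exfalso
    obtain ⟨k, hk⟩ := hed
    have hpk : p = e * k + 1 := by omega
    have hun : u ≤ n := by
      apply Nat.le_of_mul_le_mul_right _ he1
      rw [← hkey]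
      omega
    obtain ⟨m, rfl⟩ := Nat.exists_eq_add_of_le hun
    -- `h (1 + u p) = m e`
    have h1 : h * (1 + u * p) = m * e := by
      have : h + u * e + u * h * p = u * e + m * e := by rw [hkey]; ring
      have e3 : h * (1 + u * p) = h + u * h * p := by ring
      rw [e3]
      omega
    -- `e ∣ h (u + 1)`
    have h2 : e ∣ h * (u + 1) := by
      have e4 : h * (1 + u * p) = h * (u + 1) + e * (h * u * k) := by
        rw [hpk]; ring
      have h3 : e ∣ h * (u + 1) + e * (h * u * k) := by
        rw [← e4, h1]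
        exact Dvd.intro_left m rfl
      exact (Nat.dvd_add_left (Dvd.intro _ rfl)).mp h3
    obtain ⟨h', hh'⟩ := h2
    have hh'pos : 1 ≤ h' := by
      rcases Nat.eq_zero_or_pos h' with h0 | h0
      · rw [h0, mul_zero] at hh'
        have : 0 < h * (u + 1) := Nat.mul_pos hpos (by omega)
        omega
      · exact h0
    -- `m (u + 1) = h' (1 + u p)`
    have h4 : m * (u + 1) = h' * (1 + u * p) := by
      apply Nat.eq_of_mul_eq_mul_left he1
      calc e * (m * (u + 1)) = (m * e) * (u + 1) := by ring
        _ = h * (1 + u * p) * (u + 1) := by rw [h1]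
        _ = (h * (u + 1)) * (1 + u * p) := by ring
        _ = (e * h') * (1 + u * p) := by rw [hh']
        _ = e * (h' * (1 + u * p)) := by ring
    have hA : 1 + u * p ≤ m * (u + 1) := by
      rw [h4]
      exact Nat.le_mul_of_pos_left _ hh'pos
    have hC : 2 * (u + m) * (u + 1) ≤ (p + 1) * (u + 1) := Nat.mul_le_mul_right _ hn
    have hD : p ≤ u * p := Nat.le_mul_of_pos_left _ hu
    nlinarith [hA, hC, hD, Nat.zero_le (u * u)]

end Cfsg.Agent.Helper60.B43
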