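import Mathlib

/-!
# Piece (AR8) of #6956 (helper60, for helper16 / helper77: Brauer 1943): pure arithmetic
-/

set_option autoImplicit false

namespace Cfsg.Agent.Helper60.B43

theorem ar_split_exc_neg (p e n y : ℕ) (hp : p.Prime) (he1 : 1 ≤ e) (hep : e < p)
    (hy : (y : ℤ) ≡ -e [ZMOD p]) (hdvd : y ∣ (1 + n * p) * e) :
    ∃ u h w : ℕ, y + e = u * p ∧ w + 1 = h * p ∧ y * w = (1 + n * p) * e := by
  obtain ⟨w, hw⟩ := hdvd
  -- `p ∣ y + e`
  have h1 : (p : ℤ) ∣ (y : ℤ) + e := by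
    have h0 : (p : ℤ) ∣ -(e : ℤ) - y := hy.dvd
    have h2 : (y : ℤ) + e = -(-(e : ℤ) - y) := by ring
    rw [h2]
    exact (dvd_neg).mpr h0
  have h1' : p ∣ y + e := by exact_mod_cast h1
  obtain ⟨u, hu⟩ := h1'
  -- `p ∣ e (w + 1)`
  have h3 : (p : ℤ) ∣ (e : ℤ) * ((w : ℤ) + 1) := by
    have hwz : ((1 + (n : ℤ) * p) * e : ℤ) = (y : ℤ) * w := by exact_mod_cast hw
    have h4 : (e : ℤ) * ((w : ℤ) + 1) = ((y : ℤ) + e) * w - (p : ℤ) * ((n : ℤ) * e) := by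
      linear_combination hwz
    rw [h4]
    exact dvd_sub (Dvd.dvd.mul_right h1 _) (Dvd.intro _ rfl)
  have h3' : p ∣ e * (w + 1) := by exact_mod_cast h3
  have h5 : p ∣ w + 1 := by
    rcases (Nat.Prime.dvd_mul hp).mp h3' with h6 | h6
    · exfalso
      have := Nat.le_of_dvd (by omega) h6
      omega
    · exact h6
  obtain ⟨h, hh⟩ := h5
  exact ⟨u, h, w, by rw [hu]; ring, by rw [hh]; ring, hw.symm⟩

end Cfsg.Agent.Helper60.B43
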